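import Mathlib.Topology.Constructible

/-!
Basic facts on constructible sets of a topological space.
-/

set_option autoImplicit false

universe u

open Set Topology TopologicalSpace

namespace K391.Basic

variable {X : Type u} [TopologicalSpace X]

/-- A constructible set is a finite union of differences of retrocompact opens. -/
theorem exists_decomp {E : Set X} (hE : IsConstructible E) :
    ∃ (n : ℕ) (U V : Fin n → Set X), (∀ i, IsOpen (U i) ∧ IsRetrocompact (U i)) ∧
      (∀ i, IsOpen (V i) ∧ IsRetrocompact (V i)) ∧ E = ⋃ i, U i \ V i := by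
  induction E, hE using BooleanSubalgebra.closure_sdiff_sup_induction with
  | isSublattice =>
    exact ⟨fun s hs t ht ↦ ⟨hs.1.union ht.1, hs.2.union ht.2⟩,
      fun s hs t ht ↦ ⟨hs.1.inter ht.1, hs.2.inter_isOpen ht.2 ht.1⟩⟩
  | bot_mem => exact ⟨isOpen_empty, .empty⟩
  | top_mem => exact ⟨isOpen_univ, .univ⟩
  | sdiff U hU V hV =>
    exact ⟨1, fun _ => U, fun _ => V, fun _ => hU, fun _ => hV, (iUnion_const _).symm⟩
  | sup s _ t _ hs ht =>
    obtain ⟨n, U, V, hU, hV, rfl⟩ := hs
    obtain ⟨m, U', V', hU', hV', rfl⟩ := ht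
    refine ⟨n + m, Fin.append U U', Fin.append V V', ?_, ?_, ?_⟩
    · intro i
      refine Fin.addCases (fun i => ?_) (fun i => ?_) i
      · simpa using hU i
      · simpa using hU' i
    · intro i
      refine Fin.addCases (fun i => ?_) (fun i => ?_) i
      · simpa using hV i
      · simpa using hV' i
    · ext x
      simp only [sup_eq_union, mem_union, mem_iUnion]
      constructor
      · rintro (⟨i, hi⟩ | ⟨i, hi⟩)
        · exact ⟨Fin.castAdd m i, by simpa using hi⟩
        · exact ⟨Fin.natAdd n i, by simpa using hi⟩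
      · rintro ⟨i, hi⟩
        revert hi
        refine Fin.addCases (fun i => ?_) (fun i => ?_) i
        · intro hi; exact Or.inl ⟨i, by simpa using hi⟩
        · intro hi; exact Or.inr ⟨i, by simpa using hi⟩

/-- A constructible set is retrocompact. -/
theorem isRetrocompact {E : Set X} (hE : IsConstructible E) : IsRetrocompact E := by
  obtain ⟨n, U, V, hU, hV, rfl⟩ := exists_decomp hE
  refine IsRetrocompact.iUnion fun i => ?_
  intro W hW hWo
  have h1 : IsCompact (U i ∩ W) := (hU i).2 hW hWo
  have h2 : (U i \ V i) ∩ W = (U i ∩ W) ∩ (V i)ᶜ := by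
    ext x; simp only [mem_inter_iff, Set.mem_sdiff, mem_compl_iff]; tauto
  rw [h2]
  exact h1.inter_right (hV i).1.isClosed_compl

/-- A constructible set is a finite union of locally closed sets. -/
theorem exists_isLocallyClosed {E : Set X} (hE : IsConstructible E) :
    ∃ (n : ℕ) (Z : Fin n → Set X), (∀ i, IsLocallyClosed (Z i)) ∧ E = ⋃ i, Z i := by
  obtain ⟨n, U, V, hU, hV, rfl⟩ := exists_decomp hE
  exact ⟨n, fun i => U i \ V i, fun i => ⟨U i, (V i)ᶜ, (hU i).1, (hV i).1.isClosed_compl,
    rfl⟩, rfl⟩

/-- In a prespectral space, a compact open subset of a subspace is the trace of a compact open. -/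
theorem exists_compact_open [PrespectralSpace X] {T : Set X} {W : Set T} (hWc : IsCompact W)
    (hWo : IsOpen W) : ∃ W' : Set X, IsCompact W' ∧ IsOpen W' ∧ W = (Subtype.val : T → X) ⁻¹' W' := by
  obtain ⟨O, hO, hOW⟩ := isOpen_induced_iff.mp hWo
  have hWc' : IsCompact ((Subtype.val : T → X) '' W) := hWc.image continuous_subtype_val
  have hsub : (Subtype.val : T → X) '' W ⊆ O := by
    rw [← hOW]; exact image_preimage_subset _ _
  obtain ⟨W', hW'1, hW'2, hW'3, hW'4⟩ :=
    PrespectralSpace.exists_isCompact_and_isOpen_between hWc' hO hsub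
  refine ⟨W', hW'1, hW'2, Subset.antisymm ?_ ?_⟩
  · exact image_subset_iff.mp hW'3
  · rw [← hOW]; exact preimage_mono hW'4

/-- Restriction of a retrocompact open to a retrocompact subspace. -/
theorem isRetrocompact_preimage_val [PrespectralSpace X] {T V : Set X} (hT : IsRetrocompact T)
    (hV : IsOpen V) (hVr : IsRetrocompact V) :
    IsRetrocompact ((Subtype.val : T → X) ⁻¹' V) := by
  intro W hWc hWo
  obtain ⟨W', hc, ho, rfl⟩ := exists_compact_open hWc hWo
  rw [← preimage_inter, IsEmbedding.subtypeVal.isCompact_iff, image_preimage_eq_inter_range,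
    Subtype.range_coe_subtype, ofPred_mem_eq, inter_comm]
  exact hT (hVr hc ho) (hV.inter ho)

/-- Restriction of a constructible set to a retrocompact subspace. -/
theorem isConstructible_preimage_val [PrespectralSpace X] {T : Set X} (hT : IsRetrocompact T)
    {E : Set X} (hE : IsConstructible E) :
    IsConstructible ((Subtype.val : T → X) ⁻¹' E) :=
  hE.preimage continuous_subtype_val fun _ ho hr => isRetrocompact_preimage_val hT ho hr

/-- Inclusion of a difference of retrocompact opens preserves constructible sets. -/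
theorem isConstructible_image_sdiff {U V : Set X} (hU : IsOpen U) (hUr : IsRetrocompact U)
    (hV : IsOpen V) (hVr : IsRetrocompact V) {F : Set ↥(U \ V)} (hF : IsConstructible F) :
    IsConstructible ((Subtype.val : ↥(U \ V) → X) '' F) := by
  let i : ↥(U \ V) → U := inclusion sdiff_subset
  have hi : IsClosedEmbedding i := by
    refine ⟨IsEmbedding.inclusion _, ?_⟩
    rw [range_inclusion]
    have : {x : ↥U | (x : X) ∈ U \ V} = ((Subtype.val : U → X) ⁻¹' V)ᶜ := by
      ext x; simp
    rw [this]
    exact (hV.preimage continuous_subtype_val).isClosed_compl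
  have hr : (range i)ᶜ = (Subtype.val : U → X) ⁻¹' V := by
    rw [range_inclusion]
    ext x; simp
  have h1 : IsConstructible (i '' F) := by
    refine hF.image_of_isClosedEmbedding hi ?_
    rw [hr]
    exact hVr.preimage_of_isOpenEmbedding hU.isOpenEmbedding_subtypeVal
  have h2 : IsConstructible ((Subtype.val : U → X) '' (i '' F)) := by
    refine h1.image_of_isOpenEmbedding hU.isOpenEmbedding_subtypeVal ?_
    simpa using hUr
  rw [image_image] at h2
  exact h2

/-- A constructible subset of a constructible subspace is constructible. -/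
theorem isConstructible_image_val [PrespectralSpace X] {E : Set X} (hE : IsConstructible E)
    {F : Set E} (hF : IsConstructible F) : IsConstructible ((Subtype.val : E → X) '' F) := by
  obtain ⟨n, U, V, hU, hV, hEq⟩ := exists_decomp hE
  have hsub : ∀ i, U i \ V i ⊆ E := fun i => hEq ▸ subset_iUnion (fun i => U i \ V i) i
  have key : ∀ i, IsConstructible ((Subtype.val : ↥(U i \ V i) → X) ''
      ((Subtype.val : ↥(U i \ V i) → X) ⁻¹' ((Subtype.val : E → X) '' F))) := by
    intro i
    refine isConstructible_image_sdiff (hU i).1 (hU i).2 (hV i).1 (hV i).2 ?_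
    have hc : IsConstructible (U i \ V i) :=
      ((hU i).2.isConstructible (hU i).1).sdiff ((hV i).2.isConstructible (hV i).1)
    have : (Subtype.val : ↥(U i \ V i) → X) ⁻¹' ((Subtype.val : E → X) '' F) =
        (inclusion (hsub i)) ⁻¹' F := by
      ext x
      constructor
      · rintro ⟨y, hy, hyx⟩
        have : y = inclusion (hsub i) x := Subtype.ext hyx
        rw [mem_preimage, ← this]; exact hy
      · intro hx
        exact ⟨_, hx, rfl⟩
    rw [this]
    refine hF.preimage (continuous_inclusion _) fun G hGo hGr => ?_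
    intro W hWc hWo
    obtain ⟨W', hc', ho', rfl⟩ := exists_compact_open hWc hWo
    have hWE : IsCompact ((Subtype.val : E → X) ⁻¹' W') := by
      rw [IsEmbedding.subtypeVal.isCompact_iff, image_preimage_eq_inter_range,
        Subtype.range_coe_subtype, ofPred_mem_eq, inter_comm]
      exact isRetrocompact hE hc' ho'
    have hGW := hGr hWE (ho'.preimage continuous_subtype_val)
    obtain ⟨W'', hc'', ho'', he⟩ := exists_compact_open hGW
      (hGo.inter (ho'.preimage continuous_subtype_val))
    have : inclusion (hsub i) ⁻¹' G ∩ (Subtype.val : ↥(U i \ V i) → X) ⁻¹' W' =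
        (Subtype.val : ↥(U i \ V i) → X) ⁻¹' W'' := by
      have h3 : inclusion (hsub i) ⁻¹' (G ∩ (Subtype.val : E → X) ⁻¹' W') =
        inclusion (hsub i) ⁻¹' ((Subtype.val : E → X) ⁻¹' W'') := by rw [he]
      exact h3
    rw [this, IsEmbedding.subtypeVal.isCompact_iff, image_preimage_eq_inter_range,
        Subtype.range_coe_subtype, ofPred_mem_eq, inter_comm]
    exact isRetrocompact hc hc'' ho''
  have h4 : (Subtype.val : E → X) '' F = ⋃ i, ((Subtype.val : ↥(U i \ V i) → X) ''
      ((Subtype.val : ↥(U i \ V i) → X) ⁻¹' ((Subtype.val : E → X) '' F))) := by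
    simp only [image_preimage_eq_inter_range, Subtype.range_coe_subtype, ofPred_mem_eq]
    rw [← inter_iUnion, ← hEq, left_eq_inter]
    exact Subtype.coe_image_subset _ _
  rw [h4]
  exact IsConstructible.iUnion key

end K391.Basic
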